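import Cfsg.Agent.H92.RB.Def
import Cfsg.Agent.H980.RB.Cut
import Mathlib.NumberTheory.LegendreSymbol.AddCharacter

/-!
# From a representation to the function `D` on `V₁₄` (S2464, `F₄(3)`, box T3; helper387)

`Fr G Q z kap` : a group `Q` of `G` with coordinates `kap : Q → V14`, kernel `⟨z⟩`, `q ~ q z` for `q ∉ ⟨z⟩`, and the action of
`Sp₆(3)` on the coordinates realised by conjugation.

* `Dm ρ Q kap μ` : the multiplicity of `q ↦ ω ^ (BB μ (kap q))`;
* `Dm_nonneg`, `inv_Dm`, `tr_eq` (`tr q = FT D (kap q)`), `Dm_zero` (`D 0 = dim V^Q`), `sum_Dm`, `AA_Dm`.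
-/

set_option autoImplicit false

namespace Cfsg.Agent.H387.RB

open Cfsg.Agent.H700.F43 Cfsg.Agent.H92.RB Cfsg.Agent.H980.RB Module

/-- the cubic character -/
noncomputable def ec : AddChar F3 ℂ := ZMod.stdAddChar

theorem ec_add (a b : F3) : ec (a + b) = ec a * ec b := AddChar.map_add_eq_mul _ _ _

theorem ec_zero : ec 0 = 1 := AddChar.map_zero_eq_one _

theorem ec_ne {t : F3} (ht : t ≠ 0) : ec t ≠ 1 := by
  intro h
  have h1 : (ZMod.stdAddChar (N := 3)) t = (ZMod.stdAddChar (N := 3)) 0 := by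
    rw [AddChar.map_zero_eq_one]; exact h
  exact ht (ZMod.injective_stdAddChar h1)

theorem ec_sum : ec 0 + ec 1 + ec (-1) = 0 := by
  have h1 : ec 1 ≠ 1 := ec_ne (by decide)
  have h2 : ec 1 * ec 1 = ec (-1) := by
    rw [← ec_add]
    congr 1
  have h3 : ec 1 * ec (-1) = 1 := by
    rw [← ec_add, add_neg_cancel, ec_zero]
  have h4 : (ec 1 - 1) * (ec 0 + ec 1 + ec (-1)) = 0 := by
    rw [ec_zero, ← h2]
    rw [← h2] at h3
    linear_combination h3
  rcases mul_eq_zero.1 h4 with h | h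
  · exact absurd (sub_eq_zero.1 h) h1
  · exact h

/-- the real part -/
theorem ec_re (t : F3) : ec t + ec (-t) = 2 * ((c3 t : ℝ) : ℂ) := by
  have h := ec_sum
  rw [ec_zero] at h
  have hc : ∀ s : F3, s = 0 ∨ s = 1 ∨ s = -1 := by decide
  rcases hc t with rfl | rfl | rfl
  · rw [neg_zero, ec_zero, c3, if_pos rfl]; push_cast; ring
  · rw [c3, if_neg (by decide)]
    push_cast
    linear_combination h
  · rw [c3, if_neg (by decide), neg_neg]
    push_cast
    linear_combination h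

/-! ### the form -/

theorem BB_add_left (u u' v : V14) : BB (u + u') v = BB u v + BB u' v := by
  simp only [BB, Pi.add_apply]; ring

theorem BB_add_right (u v v' : V14) : BB u (v + v') = BB u v + BB u v' := by
  simp only [BB, Pi.add_apply]; ring

theorem BB_neg_left (u v : V14) : BB (-u) v = -BB u v := by
  simp only [BB, Pi.neg_apply]; ring

theorem BB_zero_left (v : V14) : BB 0 v = 0 := by
  simp only [BB, Pi.zero_apply]; ring

theorem BB_neg_right (u v : V14) : BB u (-v) = -BB u v := by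
  simp only [BB, Pi.neg_apply]; ring

/-- `μ ↦ ω ^ (BB μ v)` -/
noncomputable def chr (v : V14) : AddChar V14 ℂ where
  toFun μ := ec (BB μ v)
  map_zero_eq_one' := by rw [BB_zero_left, ec_zero]
  map_add_eq_mul' u u' := by rw [BB_add_left, ec_add]

theorem chr_apply (v μ : V14) : chr v μ = ec (BB μ v) := rfl

theorem BB_nondeg {v : V14} (hv : v ≠ 0) : ∃ μ, BB μ v ≠ 0 := by
  by_contra h
  push Not at h
  apply hv
  have k := fun j => h (Pi.single j 1)
  funext j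
  have e : ∀ i j : Fin 14, (Pi.single i (1 : F3) : V14) j = if j = i then 1 else 0 := fun i j => by
    rw [Pi.single_apply]
  simp only [BB, e] at k
  have h0 := k 0
  have h1 := k 1
  have h2 := k 2
  have h3 := k 3
  have h4 := k 4
  have h5 := k 5
  have h6 := k 6
  have h7 := k 7
  have h8 := k 8
  have h9 := k 9
  have h10 := k 10
  have h11 := k 11
  have h12 := k 12
  have h13 := k 13
  simp at h0 h1 h2 h3 h4 h5 h6 h7 h8 h9 h10 h11 h12 h13
  fin_cases j <;> simp_all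

theorem sum_chr {v : V14} (hv : v ≠ 0) : ∑ μ : V14, ec (BB μ v) = 0 := by
  have h : chr v ≠ 0 := by
    obtain ⟨μ, hμ⟩ := BB_nondeg hv
    intro h
    have h1 : chr v μ = 1 := by rw [h]; rfl
    exact ec_ne hμ h1
  exact AddChar.sum_eq_zero_of_ne_one h

theorem sum_chr_zero : ∑ μ : V14, ec (BB μ 0) = 3 ^ 14 := by
  have h : ∀ μ : V14, BB μ 0 = 0 := fun μ => by simp only [BB, Pi.zero_apply]; ring
  simp only [h, ec_zero, Finset.sum_const, Finset.card_univ, nsmul_eq_mul, mul_one]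
  rw [Fintype.card_fun, ZMod.card, Fintype.card_fin]
  norm_num

/-! ### multiplicities -/

section Mult

variable {G : Type*} [Group G] {V : Type*} [AddCommGroup V] [Module ℂ V]

/-- the twist of the restriction to `Q` by the inverse of a linear character -/
noncomputable def tw (ρ : Representation ℂ G V) (Q : Subgroup G) (l : ↥Q →* ℂ) : Representation ℂ ↥Q V where
  toFun q := l q⁻¹ • ρ (q : G)
  map_one' := by rw [inv_one, map_one, one_smul, Subgroup.coe_one, map_one]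
  map_mul' q q' := by
    rw [mul_inv_rev, map_mul, Subgroup.coe_mul, map_mul, smul_mul_smul_comm, mul_comm (l q'⁻¹)]

theorem tw_apply (ρ : Representation ℂ G V) (Q : Subgroup G) (l : ↥Q →* ℂ) (q : ↥Q) :
    tw ρ Q l q = l q⁻¹ • ρ (q : G) := rfl

/-- the sum over a group of the twisted trace -/
theorem sum_tw [FiniteDimensional ℂ V] (ρ : Representation ℂ G V) (Q : Subgroup G) [Fintype ↥Q] (l : ↥Q →* ℂ) :
    ∑ q : ↥Q, l q⁻¹ * LinearMap.trace ℂ V (ρ (q : G)) =
      (Nat.card ↥Q : ℂ) * (finrank ℂ ↥(tw ρ Q l).invariants : ℂ) := by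
  have hc : ((Fintype.card ↥Q : ℕ) : ℂ) ≠ 0 := Nat.cast_ne_zero.2 Fintype.card_ne_zero
  let _ : Invertible ((Fintype.card ↥Q : ℕ) : ℂ) := invertibleOfNonzero hc
  have h := (Representation.isProj_averageMap (tw ρ Q l)).trace
  rw [← h]
  have h2 : LinearMap.trace ℂ V (Representation.averageMap (tw ρ Q l)) =
      ⅟((Fintype.card ↥Q : ℕ) : ℂ) * ∑ q : ↥Q, l q⁻¹ * LinearMap.trace ℂ V (ρ (q : G)) := by
    simp [Representation.averageMap, GroupAlgebra.average, tw_apply]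
  rw [h2, Nat.card_eq_fintype_card, ← mul_assoc, mul_invOf_self, one_mul]

end Mult

/-! ### the frame -/

/-- coordinates on a group `Q` with kernel `⟨z⟩` of order three -/
structure Fr {G : Type*} [Group G] (Q : Subgroup G) (z : G) (kap : G → V14) : Prop where
  z_mem : z ∈ Q
  z_ne : z ≠ 1
  z3 : z ^ 3 = 1
  mul : ∀ q ∈ Q, ∀ q' ∈ Q, kap (q * q') = kap q + kap q'
  ker : ∀ q ∈ Q, kap q = 0 ↔ q ∈ Subgroup.zpowers z
  surj : ∀ v, ∃ q ∈ Q, kap q = v
  conj : ∀ q ∈ Q, q ∉ Subgroup.zpowers z → ∃ g : G, g * q * g⁻¹ = q * z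
  act : ∀ (A : Sp) (X : V14 →ₗ[F3] V14), Rel A X →
    ∃ g : G, (∀ q, q ∈ Q ↔ g * q * g⁻¹ ∈ Q) ∧ ∀ q ∈ Q, kap (g * q * g⁻¹) = X (kap q)

section Frame

variable {G : Type*} [Group G] {V : Type*} [AddCommGroup V] [Module ℂ V] {Q : Subgroup G} {z : G} {kap : G → V14}

theorem trace_conj (ρ : Representation ℂ G V) (g q : G) :
    LinearMap.trace ℂ V (ρ (g * q * g⁻¹)) = LinearMap.trace ℂ V (ρ q) := by
  rw [mul_assoc, map_mul, LinearMap.trace_mul_comm, ← map_mul]
  congr 2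
  group

theorem Fr.one (F : Fr Q z kap) : kap 1 = 0 := (F.ker 1 (one_mem _)).2 (one_mem _)

theorem Fr.inv' (F : Fr Q z kap) {q : G} (hq : q ∈ Q) : kap q⁻¹ = -kap q := by
  have h := F.mul q hq q⁻¹ (inv_mem hq)
  rw [mul_inv_cancel, F.one] at h
  exact (neg_eq_of_add_eq_zero_right h.symm).symm

theorem mem_zpowers_cases (h3 : z ^ 3 = 1) {x : G} (hx : x ∈ Subgroup.zpowers z) : x = 1 ∨ x = z ∨ x = z ^ 2 := by
  obtain ⟨k, rfl⟩ := Subgroup.mem_zpowers_iff.1 hx
  have h3' : z ^ (3 : ℤ) = 1 := by exact_mod_cast h3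
  have h : z ^ k = z ^ (k % 3) := by
    conv_lhs => rw [← Int.emod_add_mul_ediv k 3, zpow_add, zpow_mul, h3', one_zpow, mul_one]
  have h1 : k % 3 = 0 ∨ k % 3 = 1 ∨ k % 3 = 2 := by omega
  rw [h]
  rcases h1 with h1 | h1 | h1
  · left; rw [h1, zpow_zero]
  · right; left; rw [h1, zpow_one]
  · right; right; rw [h1]; exact zpow_ofNat z 2

theorem Fr.z2_ne (F : Fr Q z kap) : z ^ 2 ≠ 1 := by
  intro h
  apply F.z_ne
  have h3 := F.z3
  rw [pow_succ, h, one_mul] at h3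
  exact h3

/-- the linear character `μ` of `Q` -/
noncomputable def lm (F : Fr Q z kap) (μ : V14) : ↥Q →* ℂ where
  toFun q := ec (BB μ (kap q))
  map_one' := by
    have h : BB μ 0 = 0 := by simp only [BB, Pi.zero_apply]; ring
    rw [Subgroup.coe_one, F.one, h, ec_zero]
  map_mul' q q' := by rw [Subgroup.coe_mul, F.mul _ q.2 _ q'.2, BB_add_right, ec_add]

theorem lm_apply (F : Fr Q z kap) (μ : V14) (q : ↥Q) : lm F μ q = ec (BB μ (kap q)) := rfl

/-- the multiplicity of `μ` -/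
noncomputable def Dm (F : Fr Q z kap) (ρ : Representation ℂ G V) (μ : V14) : ℝ :=
  (finrank ℂ ↥(tw ρ Q (lm F μ)).invariants : ℝ)

theorem Dm_nonneg (F : Fr Q z kap) (ρ : Representation ℂ G V) (μ : V14) : 0 ≤ Dm F ρ μ := Nat.cast_nonneg _

theorem card_Dm [FiniteDimensional ℂ V] [Fintype ↥Q] (F : Fr Q z kap) (ρ : Representation ℂ G V) (μ : V14) :
    (Nat.card ↥Q : ℂ) * ((Dm F ρ μ : ℝ) : ℂ) =
      ∑ q : ↥Q, ec (-BB μ (kap q)) * LinearMap.trace ℂ V (ρ (q : G)) := by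
  have h := sum_tw ρ Q (lm F μ)
  rw [Dm, Complex.ofReal_natCast, ← h]
  refine Finset.sum_congr rfl fun q _ => ?_
  rw [lm_apply, Subgroup.coe_inv, F.inv' q.2, BB_neg_right]

theorem sum_fiber [Fintype ↥Q] (F : Fr Q z kap) {q₀ : G} (h₀ : q₀ ∈ Q) (f : G → ℂ) :
    ∑ q ∈ Finset.univ.filter (fun q : ↥Q => kap (q : G) = kap q₀), f (q : G) = f q₀ + f (q₀ * z) + f (q₀ * z ^ 2) := by
  classical
  have hz2 : z ^ 2 ∈ Q := pow_mem F.z_mem 2
  let a : ↥Q := ⟨q₀, h₀⟩
  let b : ↥Q := ⟨q₀ * z, mul_mem h₀ F.z_mem⟩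
  let c : ↥Q := ⟨q₀ * z ^ 2, mul_mem h₀ hz2⟩
  have hab : a ≠ b := by
    intro h
    have h1 : q₀ = q₀ * z := congrArg Subtype.val h
    exact F.z_ne (left_eq_mul.1 h1)
  have hac : a ≠ c := by
    intro h
    have h1 : q₀ = q₀ * z ^ 2 := congrArg Subtype.val h
    exact F.z2_ne (left_eq_mul.1 h1)
  have hbc : b ≠ c := by
    intro h
    have h1 : q₀ * z = q₀ * z ^ 2 := congrArg Subtype.val h
    have h2 : z = z ^ 2 := mul_left_cancel h1
    rw [pow_two] at h2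
    exact F.z_ne (left_eq_mul.1 h2)
  have hS : (Finset.univ.filter fun q : ↥Q => kap (q : G) = kap q₀) = {a, b, c} := by
    ext q
    simp only [Finset.mem_filter, Finset.mem_univ, true_and, Finset.mem_insert, Finset.mem_singleton]
    constructor
    · intro h
      have h1 : kap (q₀⁻¹ * q) = 0 := by
        rw [F.mul _ (inv_mem h₀) _ q.2, F.inv' h₀, h, neg_add_cancel]
      have h2 := (F.ker _ (mul_mem (inv_mem h₀) q.2)).1 h1
      rcases mem_zpowers_cases F.z3 h2 with h3 | h3 | h3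
      · left; apply Subtype.ext
        show (q : G) = q₀
        rw [← mul_one q₀, ← h3, mul_inv_cancel_left]
      · right; left; apply Subtype.ext
        show (q : G) = q₀ * z
        rw [← h3, mul_inv_cancel_left]
      · right; right; apply Subtype.ext
        show (q : G) = q₀ * z ^ 2
        rw [← h3, mul_inv_cancel_left]
    · have hz : kap z = 0 := (F.ker z F.z_mem).2 (Subgroup.mem_zpowers z)
      have hzz : kap (z ^ 2) = 0 := (F.ker _ hz2).2 (pow_mem (Subgroup.mem_zpowers z) 2)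
      rintro (rfl | rfl | rfl)
      · rfl
      · show kap (q₀ * z) = kap q₀
        rw [F.mul _ h₀ _ F.z_mem, hz, add_zero]
      · show kap (q₀ * z ^ 2) = kap q₀
        rw [F.mul _ h₀ _ hz2, hzz, add_zero]
  rw [hS, Finset.sum_insert (by simp [hab, hac]), Finset.sum_insert (by simp [hbc]), Finset.sum_singleton, add_assoc]

theorem card_Q [Finite ↥Q] (F : Fr Q z kap) : (Nat.card ↥Q : ℂ) = 3 ^ 15 := by
  classical
  have : Fintype ↥Q := Fintype.ofFinite _
  have h1 : ∑ _q : ↥Q, (1 : ℂ) = ∑ v : V14, ∑ _q ∈ Finset.univ.filter (fun q : ↥Q => kap (q : G) = v), (1 : ℂ) :=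
    (Finset.sum_fiberwise (Finset.univ : Finset ↥Q) (fun q : ↥Q => kap (q : G)) fun _ => (1 : ℂ)).symm
  have h2 : ∀ v : V14, ∑ _q ∈ Finset.univ.filter (fun q : ↥Q => kap (q : G) = v), (1 : ℂ) = 3 := by
    intro v
    obtain ⟨q, hq, rfl⟩ := F.surj v
    rw [sum_fiber F hq fun _ => 1]
    norm_num
  rw [Finset.sum_congr rfl fun v _ => h2 v] at h1
  simp only [Finset.sum_const, Finset.card_univ, nsmul_eq_mul, mul_one] at h1
  rw [Nat.card_eq_fintype_card, h1, Fintype.card_fun, ZMod.card, Fintype.card_fin]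
  norm_num

/-- inversion: the part of the trace on the vectors fixed by `z` -/
theorem sum_Dm_ec [FiniteDimensional ℂ V] [Finite ↥Q] (F : Fr Q z kap) (ρ : Representation ℂ G V) {q₀ : G} (h₀ : q₀ ∈ Q) :
    3 * ∑ μ : V14, ((Dm F ρ μ : ℝ) : ℂ) * ec (BB μ (kap q₀)) =
      LinearMap.trace ℂ V (ρ q₀) + LinearMap.trace ℂ V (ρ (q₀ * z)) + LinearMap.trace ℂ V (ρ (q₀ * z ^ 2)) := by
  classical
  have : Fintype ↥Q := Fintype.ofFinite _
  have h1 : (Nat.card ↥Q : ℂ) * ∑ μ : V14, ((Dm F ρ μ : ℝ) : ℂ) * ec (BB μ (kap q₀)) =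
      ∑ q : ↥Q, LinearMap.trace ℂ V (ρ (q : G)) * ∑ μ : V14, ec (BB μ (kap q₀ - kap q)) := by
    rw [Finset.mul_sum]
    have h2 : ∀ μ : V14, (Nat.card ↥Q : ℂ) * (((Dm F ρ μ : ℝ) : ℂ) * ec (BB μ (kap q₀))) =
        ∑ q : ↥Q, LinearMap.trace ℂ V (ρ (q : G)) * ec (BB μ (kap q₀ - kap q)) := by
      intro μ
      rw [← mul_assoc, card_Dm F ρ μ, Finset.sum_mul]
      refine Finset.sum_congr rfl fun q _ => ?_
      rw [sub_eq_add_neg, BB_add_right, BB_neg_right, ec_add]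
      ring
    rw [Finset.sum_congr rfl fun μ _ => h2 μ, Finset.sum_comm]
    refine Finset.sum_congr rfl fun q _ => ?_
    rw [Finset.mul_sum]
  have h3 : ∀ q : ↥Q, LinearMap.trace ℂ V (ρ (q : G)) * ∑ μ : V14, ec (BB μ (kap q₀ - kap q)) =
      if kap q = kap q₀ then 3 ^ 14 * LinearMap.trace ℂ V (ρ (q : G)) else 0 := by
    intro q
    split_ifs with h
    · rw [h, sub_self, sum_chr_zero, mul_comm]
    · rw [sum_chr (sub_ne_zero.2 (Ne.symm h)), mul_zero]
  rw [Finset.sum_congr rfl fun q _ => h3 q, ← Finset.sum_filter, ← Finset.mul_sum,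
    sum_fiber F h₀ fun q => LinearMap.trace ℂ V (ρ q), card_Q F] at h1
  have h4 : (3 : ℂ) ^ 14 ≠ 0 := by norm_num
  apply mul_left_cancel₀ h4
  rw [← h1]
  ring

theorem Fr.conj_z (F : Fr Q z kap) (ρ : Representation ℂ G V) {q : G} (hq : q ∈ Q) (hz : q ∉ Subgroup.zpowers z) :
    LinearMap.trace ℂ V (ρ (q * z)) = LinearMap.trace ℂ V (ρ q) := by
  obtain ⟨g, hg⟩ := F.conj q hq hz
  rw [← hg, trace_conj]

theorem sum_ec_eq [FiniteDimensional ℂ V] [Finite ↥Q] (F : Fr Q z kap) (ρ : Representation ℂ G V) {q : G} (hq : q ∈ Q)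
    (hz : q ∉ Subgroup.zpowers z) :
    ∑ μ : V14, ((Dm F ρ μ : ℝ) : ℂ) * ec (BB μ (kap q)) = LinearMap.trace ℂ V (ρ q) := by
  have h := sum_Dm_ec F ρ hq
  have h1 := F.conj_z ρ hq hz
  have h2 : q * z ∉ Subgroup.zpowers z := fun h => hz ((Subgroup.mul_mem_cancel_right _ (Subgroup.mem_zpowers z)).1 h)
  have h3 := F.conj_z ρ (mul_mem hq F.z_mem) h2
  rw [pow_two, ← mul_assoc, h3, h1] at h
  linear_combination h / 3

/-- invariance -/
theorem Dm_act [FiniteDimensional ℂ V] [Finite ↥Q] (F : Fr Q z kap) (ρ : Representation ℂ G V) {A : Sp}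
    {X : V14 →ₗ[F3] V14} (hX : Rel A X) (hB : ∀ u v : V14, BB (X u) (X v) = BB u v) (μ : V14) :
    Dm F ρ (X μ) = Dm F ρ μ := by
  classical
  have : Fintype ↥Q := Fintype.ofFinite _
  obtain ⟨g, h1, h2⟩ := F.act A X hX
  let e : ↥Q ≃ ↥Q :=
    { toFun := fun q => ⟨g * q * g⁻¹, (h1 _).1 q.2⟩
      invFun := fun q => ⟨g⁻¹ * q * g, (h1 _).2 (by
        have : g * (g⁻¹ * (q : G) * g) * g⁻¹ = q := by group
        rw [this]; exact q.2)⟩
      left_inv := fun q => Subtype.ext (by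
        show g⁻¹ * (g * (q : G) * g⁻¹) * g = q
        group)
      right_inv := fun q => Subtype.ext (by
        show g * (g⁻¹ * (q : G) * g) * g⁻¹ = q
        group) }
  have he : ∀ q : ↥Q, ((e q : ↥Q) : G) = g * q * g⁻¹ := fun _ => rfl
  have h3 : (Nat.card ↥Q : ℂ) * ((Dm F ρ (X μ) : ℝ) : ℂ) = (Nat.card ↥Q : ℂ) * ((Dm F ρ μ : ℝ) : ℂ) := by
    rw [card_Dm, card_Dm, ← Equiv.sum_comp e]
    refine Finset.sum_congr rfl fun q _ => ?_
    rw [he, h2 _ q.2, hB, trace_conj]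
  have h4 : (Nat.card ↥Q : ℂ) ≠ 0 := Nat.cast_ne_zero.2 Nat.card_pos.ne'
  exact_mod_cast mul_left_cancel₀ h4 h3

theorem inv_Dm [FiniteDimensional ℂ V] [Finite ↥Q] (F : Fr Q z kap) (ρ : Representation ℂ G V)
    (hB : ∀ (A : Sp) (X : V14 →ₗ[F3] V14), Rel A X → ∀ u v : V14, BB (X u) (X v) = BB u v) : Inv (Dm F ρ) :=
  fun A X hX μ => Dm_act F ρ hX (hB A X hX) μ

theorem Dm_neg [FiniteDimensional ℂ V] [Finite ↥Q] (F : Fr Q z kap) (ρ : Representation ℂ G V) (μ : V14) :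
    Dm F ρ (-μ) = Dm F ρ μ := by
  have hr : Rel ng (-1 : V14 →ₗ[F3] V14) := by
    intro x y w
    have h1 : ∀ v : V6, (ng.1).mulVec v = -v := fun v => by
      show (-1 : Matrix (Fin 3 ⊕ Fin 3) (Fin 3 ⊕ Fin 3) F3).mulVec v = -v
      rw [Matrix.neg_mulVec, Matrix.one_mulVec]
    rw [h1, h1, h1]
    show -(ww x y w) = ww (-x) (-y) (-w)
    have h2 : ∀ a b c, d3 (-x) (-y) (-w) a b c = -d3 x y w a b c := by
      intro a b c
      simp only [d3, Pi.neg_apply]
      ring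
    funext j
    simp only [ww, cX, cY, h2]
    fin_cases j <;> simp <;> ring
  exact Dm_act F ρ hr (fun u v => by
    show BB (-u) (-v) = BB u v
    rw [BB_neg_left, BB_neg_right, neg_neg]) μ

theorem sum_ec_FT [FiniteDimensional ℂ V] [Finite ↥Q] (F : Fr Q z kap) (ρ : Representation ℂ G V) (v : V14) :
    ∑ μ : V14, ((Dm F ρ μ : ℝ) : ℂ) * ec (BB μ v) = ((FT (Dm F ρ) v : ℝ) : ℂ) := by
  have h1 : ∑ μ : V14, ((Dm F ρ μ : ℝ) : ℂ) * ec (BB μ v) = ∑ μ : V14, ((Dm F ρ μ : ℝ) : ℂ) * ec (-BB μ v) := by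
    rw [← Equiv.sum_comp (Equiv.neg V14)]
    refine Finset.sum_congr rfl fun μ _ => ?_
    rw [Equiv.neg_apply, Dm_neg, BB_neg_left]
  have h2 : 2 * ∑ μ : V14, ((Dm F ρ μ : ℝ) : ℂ) * ec (BB μ v) = 2 * ((FT (Dm F ρ) v : ℝ) : ℂ) := by
    rw [two_mul]
    nth_rw 2 [h1]
    rw [← Finset.sum_add_distrib, FT, Complex.ofReal_sum, Finset.mul_sum]
    refine Finset.sum_congr rfl fun μ _ => ?_
    rw [← mul_add, ec_re, Complex.ofReal_mul]
    ring
  exact mul_left_cancel₀ two_ne_zero h2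

/-- **The trace on `Q - ⟨z⟩`.** -/
theorem trace_eq_FT [FiniteDimensional ℂ V] [Finite ↥Q] (F : Fr Q z kap) (ρ : Representation ℂ G V) {q : G} (hq : q ∈ Q)
    (hz : q ∉ Subgroup.zpowers z) : LinearMap.trace ℂ V (ρ q) = ((FT (Dm F ρ) (kap q) : ℝ) : ℂ) := by
  rw [← sum_ec_FT, sum_ec_eq F ρ hq hz]

theorem Dm_zero [FiniteDimensional ℂ V] (F : Fr Q z kap) (ρ : Representation ℂ G V) :
    Dm F ρ 0 = (finrank ℂ ↥(fixM ρ (Q : Set G)) : ℝ) := by
  have h : (tw ρ Q (lm F 0)).invariants = fixM ρ (Q : Set G) := by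
    ext v
    rw [Representation.mem_invariants, mem_fixM]
    constructor
    · intro h s hs
      have h1 := h ⟨s, hs⟩
      rw [tw_apply, lm_apply, BB_zero_left, ec_zero, one_smul] at h1
      exact h1
    · intro h s
      rw [tw_apply, lm_apply, BB_zero_left, ec_zero, one_smul]
      exact h s s.2
  rw [Dm, h]

end Frame

section Fixed

variable {G : Type*} [Group G] {V : Type*} [AddCommGroup V] [Module ℂ V] {Q : Subgroup G} {z : G} {kap : G → V14}

/-- the fixed space of a subgroup -/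
theorem card_mul_fix [FiniteDimensional ℂ V] (ρ : Representation ℂ G V) (R : Subgroup G) [Fintype ↥R] :
    (Nat.card ↥R : ℂ) * (finrank ℂ ↥(fixM ρ (R : Set G)) : ℂ) = ∑ r : ↥R, LinearMap.trace ℂ V (ρ (r : G)) := by
  have h := sum_tw ρ R (1 : ↥R →* ℂ)
  have h2 : (tw ρ R (1 : ↥R →* ℂ)).invariants = fixM ρ (R : Set G) := by
    ext v
    rw [Representation.mem_invariants, mem_fixM]
    constructor
    · intro h s hs
      have h1 := h ⟨s, hs⟩
      rw [tw_apply, MonoidHom.one_apply, one_smul] at h1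
      exact h1
    · intro h s
      rw [tw_apply, MonoidHom.one_apply, one_smul]
      exact h s s.2
  rw [← h2, ← h]
  refine Finset.sum_congr rfl fun r _ => ?_
  rw [MonoidHom.one_apply, one_mul]

theorem fixM_closure (ρ : Representation ℂ G V) (S : Set G) : fixM ρ (Subgroup.closure S : Set G) = fixM ρ S := by
  ext v
  rw [mem_fixM, mem_fixM]
  refine ⟨fun h s hs => h s (Subgroup.subset_closure hs), fun h s hs => ?_⟩
  induction hs using Subgroup.closure_induction with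
  | mem s hs => exact h s hs
  | one => rw [map_one]; rfl
  | mul a b _ _ ha hb => rw [map_mul, Module.End.mul_apply, hb, ha]
  | inv a _ ha =>
    have h1 : ρ a⁻¹ (ρ a v) = v := by rw [← Module.End.mul_apply, ← map_mul, inv_mul_cancel, map_one]; rfl
    rw [ha] at h1
    exact h1

/-- **The fixed space of a subgroup between `⟨z⟩` and `Q`.** -/
theorem finrank_fix [FiniteDimensional ℂ V] [Finite ↥Q] (F : Fr Q z kap) (ρ : Representation ℂ G V) {R : Subgroup G}
    (hR : R ≤ Q) (hz : z ∈ R) [DecidablePred fun μ : V14 => ∀ r ∈ R, BB μ (kap r) = 0] :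
    (finrank ℂ ↥(fixM ρ (R : Set G)) : ℝ) =
      ∑ μ ∈ Finset.univ.filter (fun μ : V14 => ∀ r ∈ R, BB μ (kap r) = 0), Dm F ρ μ := by
  classical
  have : Fintype ↥Q := Fintype.ofFinite _
  have : Finite ↥R := Finite.of_injective (fun r : ↥R => (⟨r, hR r.2⟩ : ↥Q)) fun a b h => Subtype.ext (congrArg (fun x : ↥Q => (x : G)) h)
  have : Fintype ↥R := Fintype.ofFinite _
  have hz2 : z ^ 2 ∈ R := pow_mem hz 2
  -- the sum over `R`
  have h1 : ∀ c : ↥R, ∑ r : ↥R, LinearMap.trace ℂ V (ρ ((r : G) * c)) = ∑ r : ↥R, LinearMap.trace ℂ V (ρ (r : G)) :=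
    fun c => Equiv.sum_comp (Equiv.mulRight c) fun r : ↥R => LinearMap.trace ℂ V (ρ (r : G))
  have h2 : 3 * ∑ r : ↥R, LinearMap.trace ℂ V (ρ (r : G)) =
      3 * ∑ μ : V14, ((Dm F ρ μ : ℝ) : ℂ) * ∑ r : ↥R, ec (BB μ (kap r)) := by
    have h3 : ∀ r : ↥R, LinearMap.trace ℂ V (ρ (r : G)) + LinearMap.trace ℂ V (ρ ((r : G) * z)) +
        LinearMap.trace ℂ V (ρ ((r : G) * z ^ 2)) = 3 * ∑ μ : V14, ((Dm F ρ μ : ℝ) : ℂ) * ec (BB μ (kap r)) :=
      fun r => (sum_Dm_ec F ρ (hR r.2)).symm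
    have h4 := Finset.sum_congr (rfl : (Finset.univ : Finset ↥R) = Finset.univ) fun r _ => h3 r
    rw [Finset.sum_add_distrib, Finset.sum_add_distrib, h1 ⟨z, hz⟩, h1 ⟨z ^ 2, hz2⟩, ← Finset.mul_sum,
      Finset.sum_comm] at h4
    rw [Finset.sum_congr rfl fun μ _ => Finset.mul_sum _ _ _, ← h4]
    ring
  have h3 := mul_left_cancel₀ (three_ne_zero) h2
  have h5 : ∀ μ : V14, ∑ r : ↥R, ec (BB μ (kap r)) = if ∀ r ∈ R, BB μ (kap r) = 0 then (Nat.card ↥R : ℂ) else 0 := by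
    intro μ
    split_ifs with h
    · rw [Finset.sum_congr rfl fun (r : ↥R) _ => by rw [h r r.2, ec_zero], Finset.sum_const, Finset.card_univ,
        nsmul_eq_mul, mul_one, Nat.card_eq_fintype_card]
    · let f : ↥R →* ℂ := (lm F μ).comp (Subgroup.inclusion hR)
      have hf : f ≠ 1 := by
        intro hf
        apply h
        intro r hr
        by_contra hne
        have h6 : f ⟨r, hr⟩ = 1 := by rw [hf]; rfl
        exact ec_ne hne h6
      exact sum_hom_units_eq_zero f hf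
  rw [← card_mul_fix, Finset.sum_congr rfl fun μ _ => by rw [h5 μ]] at h3
  have h6 : ∀ μ : V14, ((Dm F ρ μ : ℝ) : ℂ) * (if ∀ r ∈ R, BB μ (kap r) = 0 then (Nat.card ↥R : ℂ) else 0) =
      if ∀ r ∈ R, BB μ (kap r) = 0 then (Nat.card ↥R : ℂ) * ((Dm F ρ μ : ℝ) : ℂ) else 0 := by
    intro μ
    split_ifs
    · ring
    · ring
  rw [Finset.sum_congr rfl fun μ _ => h6 μ, ← Finset.sum_filter, ← Finset.mul_sum] at h3
  have h7 := mul_left_cancel₀ (Nat.cast_ne_zero.2 Nat.card_pos.ne') h3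
  have h8 : ((finrank ℂ ↥(fixM ρ (R : Set G)) : ℝ) : ℂ) =
      ((∑ μ ∈ Finset.univ.filter (fun μ : V14 => ∀ r ∈ R, BB μ (kap r) = 0), Dm F ρ μ : ℝ) : ℂ) := by
    rw [Complex.ofReal_sum, ← h7, Complex.ofReal_natCast]
  exact_mod_cast h8

/-- the same for a set -/
theorem finrank_fix_set [FiniteDimensional ℂ V] [Finite ↥Q] (F : Fr Q z kap) (ρ : Representation ℂ G V) {S : Set G}
    (hS : S ⊆ Q) (hz : z ∈ S) [DecidablePred fun μ : V14 => ∀ s ∈ S, BB μ (kap s) = 0] :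
    (finrank ℂ ↥(fixM ρ S) : ℝ) = ∑ μ ∈ Finset.univ.filter (fun μ : V14 => ∀ s ∈ S, BB μ (kap s) = 0), Dm F ρ μ := by
  classical
  have hR : Subgroup.closure S ≤ Q := (Subgroup.closure_le Q).2 hS
  rw [← fixM_closure, finrank_fix F ρ hR (Subgroup.subset_closure hz)]
  refine Finset.sum_congr (Finset.filter_congr fun μ _ => ?_) fun _ _ => rfl
  refine ⟨fun h s hs => h s (Subgroup.subset_closure hs), fun h s hs => ?_⟩
  induction hs using Subgroup.closure_induction with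
  | mem s hs => exact h s hs
  | one => rw [F.one]; simp only [BB, Pi.zero_apply]; ring
  | mul a b ha hb h1 h2 => rw [F.mul a (hR ha) b (hR hb), BB_add_right, h1, h2, add_zero]
  | inv a ha h1 => rw [F.inv' (hR ha), BB_neg_right, h1, neg_zero]

/-- the vectors fixed by `z` -/
theorem sum_Dm [FiniteDimensional ℂ V] [Finite ↥Q] (F : Fr Q z kap) (ρ : Representation ℂ G V) :
    ∑ μ : V14, Dm F ρ μ = (finrank ℂ ↥(fixM ρ {z}) : ℝ) := by
  classical
  rw [finrank_fix_set F ρ (Set.singleton_subset_iff.2 F.z_mem) (Set.mem_singleton z)]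
  refine (Finset.sum_congr (Finset.filter_true_of_mem fun μ _ s hs => ?_) fun _ _ => rfl).symm
  rw [Set.mem_singleton_iff.1 hs, (F.ker z F.z_mem).2 (Subgroup.mem_zpowers z)]
  simp only [BB, Pi.zero_apply]; ring

theorem AA_Dm [FiniteDimensional ℂ V] [Finite ↥Q] (F : Fr Q z kap) (ρ : Representation ℂ G V) :
    AA (Dm F ρ) = (finrank ℂ ↥(fixM ρ {z}) : ℝ) - finrank ℂ ↥(fixM ρ (Q : Set G)) := by
  rw [← sum_Dm F ρ, ← Dm_zero F ρ, AA, ← Finset.add_sum_erase _ _ (Finset.mem_univ (0 : V14)), add_sub_cancel_left]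

/-- the trace of `z` -/
theorem trace_z [FiniteDimensional ℂ V] [Finite ↥Q] (F : Fr Q z kap) (ρ : Representation ℂ G V)
    (h2 : LinearMap.trace ℂ V (ρ (z ^ 2)) = LinearMap.trace ℂ V (ρ z)) :
    3 * ((finrank ℂ ↥(fixM ρ {z}) : ℂ)) = (finrank ℂ V : ℂ) + 2 * LinearMap.trace ℂ V (ρ z) := by
  have h := sum_Dm_ec F ρ (one_mem Q)
  have h0 : ∀ μ : V14, BB μ (kap 1) = 0 := fun μ => by
    rw [F.one]; simp only [BB, Pi.zero_apply]; ring
  rw [Finset.sum_congr rfl fun μ _ => by rw [h0 μ, ec_zero, mul_one], ← Complex.ofReal_sum, sum_Dm F ρ,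
    Complex.ofReal_natCast, one_mul, one_mul, map_one, LinearMap.trace_one] at h
  rw [h, h2]
  ring

end Fixed

end Cfsg.Agent.H387.RB
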