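import Cfsg.Agent.H700.F43.MdlI
import Cfsg.Agent.H701.F43.CzP
import Cfsg.Agent.H387.RB.Glue

/-!
# The frame `Fr` for `QQ ≤ F₄(3)` (S2464, `F₄(3)`, box T3; helper387)

* `frP : Fr ff.ker zP kp` (on `PP = C(z)`), `frG : Fr QQ (xp 47) kap` (on the whole group);
* `conj_zp` : `z` and `z * z = z⁻¹` are conjugate; `inv_zp`, `trace_zp2`.
-/

set_option autoImplicit false

namespace Cfsg.Agent.H387.RB

open Cfsg.Agent.H700.F43 Cfsg.Agent.H323.Pw

/-! ### abstract lemmas -/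

section Abs

universe u

variable {H : Type u} [Group H]

theorem pow3_of {z : H} (h : orderOf z = 3) : z ^ 3 = 1 := orderOf_dvd_iff_pow_eq_one.1 (by rw [h])

theorem ne_of {z : H} (h : orderOf z = 3) : z ≠ 1 := by
  rintro rfl
  rw [orderOf_one] at h
  omega

theorem val_pow {P : Subgroup H} {x : ↥P} {n : ℕ} (h : x ^ n = 1) : (x : H) ^ n = 1 := congrArg Subtype.val h

theorem val_ne {P : Subgroup H} {x : ↥P} (h : x ≠ 1) : (x : H) ≠ 1 := fun e => h (Subtype.ext e)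

theorem inv_eq_of_pow3 {z : H} (h : z ^ 3 = 1) : z⁻¹ = z ^ 2 :=
  inv_eq_of_mul_eq_one_left (by rw [← pow_succ]; exact h)

/-- in an extraspecial group of exponent three `x ~ x z` -/
theorem conj_of_xs {Q : Subgroup H} {z : H} (X : XS 3 Q z) {x : H} (hx : x ∈ Q) (hxz : x ∉ Subgroup.zpowers z) :
    ∃ g : H, g * x * g⁻¹ = x * z := by
  have h1 : ¬ ∀ y ∈ Q, x * y = y * x := fun h => hxz (X.nd x hx h)
  push Not at h1
  obtain ⟨y, hy, hne⟩ := h1
  have h2 : y * x * y⁻¹ * x⁻¹ ∈ Subgroup.zpowers z := X.comm y hy x hx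
  have h3 : z ^ 3 = 1 := pow3_of X.ord
  have hc := X.central
  rcases mem_zpowers_cases h3 h2 with h4 | h4 | h4
  · exact absurd (by
      have : y * x * y⁻¹ = x := by rw [mul_inv_eq_one] at h4; exact h4
      rw [mul_inv_eq_iff_eq_mul] at this
      exact this.symm) hne
  · refine ⟨y, ?_⟩
    rw [mul_inv_eq_iff_eq_mul] at h4
    rw [h4, hc x]
  · refine ⟨y * y, ?_⟩
    have h5 : y * x * y⁻¹ = x * z ^ 2 := by
      rw [mul_inv_eq_iff_eq_mul] at h4
      rw [h4]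
      exact ((show Commute x z from hc x).pow_right 2).eq.symm
    have h6 : y * z ^ 2 * y⁻¹ = z ^ 2 := by
      rw [((show Commute y z from hc y).pow_right 2).eq, mul_inv_cancel_right]
    have h9 : (y * y) * x * (y * y)⁻¹ = (y * (y * x * y⁻¹) * y⁻¹) := by group
    rw [h9, h5]
    have h8 : y * (x * z ^ 2) * y⁻¹ = (y * x * y⁻¹) * (y * z ^ 2 * y⁻¹) := by group
    rw [h8, h5, h6, mul_assoc, ← pow_add, show (2 + 2 : ℕ) = 3 + 1 from rfl, pow_succ, h3, one_mul]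

/-- the frame from an extraspecial normal subgroup with an action of `Sp₆(3)` -/
theorem fr_of_xs {Q : Subgroup H} {z : H} {k : H → V14} {f : H →* Sp} (X : XS 3 Q z)
    (hmul : ∀ x ∈ Q, ∀ y ∈ Q, k (x * y) = k x + k y) (hz : k z = 0) (hk : ∀ x ∈ Q, k x = 0 → x ∈ Subgroup.zpowers z)
    (hs : ∀ v, ∃ q ∈ Q, k q = v) (hf : Function.Surjective f)
    (ha : ∀ g : H, ∃ X : V14 →ₗ[F3] V14, (∀ v ∈ Q, k (g * v * g⁻¹) = X (k v)) ∧ Rel (f g) X) : Fr Q z k where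
  z_mem := X.mem
  z_ne := ne_of X.ord
  z3 := pow3_of X.ord
  mul := hmul
  ker q hq := by
    refine ⟨hk q hq, fun h => ?_⟩
    have h1 : k 1 = 0 := by
      have h2 := hmul 1 (one_mem _) 1 (one_mem _)
      rw [mul_one] at h2
      exact left_eq_add.1 h2
    rcases mem_zpowers_cases (pow3_of X.ord) h with rfl | rfl | rfl
    · exact h1
    · exact hz
    · rw [pow_two, hmul _ X.mem _ X.mem, hz, add_zero]
  surj := hs
  conj q hq hq' := conj_of_xs X hq hq'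
  act A Y hY := by
    obtain ⟨g, rfl⟩ := hf A
    obtain ⟨Z, h1, h2⟩ := ha g
    have h3 : Z = Y := Cfsg.Agent.H750.F43.rel_unique h2 hY
    subst h3
    refine ⟨g, fun q => ⟨fun hq => X.conj_mem hq g, fun hq => ?_⟩, h1⟩
    have h4 := X.conj_mem hq g⁻¹
    have h5 : g⁻¹ * (g * q * g⁻¹) * (g⁻¹)⁻¹ = q := by group
    rwa [h5] at h4

/-- from a subgroup to the whole group -/
theorem Fr.up {P Q : Subgroup H} (hQP : Q ≤ P) {z : H} (hz : z ∈ P) {k : H → V14}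
    (F : Fr (Q.subgroupOf P) (⟨z, hz⟩ : ↥P) (fun x : ↥P => k x)) : Fr Q z k where
  z_mem := F.z_mem
  z_ne := val_ne F.z_ne
  z3 := val_pow F.z3
  mul q hq q' hq' := F.mul ⟨q, hQP hq⟩ hq ⟨q', hQP hq'⟩ hq'
  ker q hq := (F.ker ⟨q, hQP hq⟩ hq).trans (zpow_iff hz)
  surj v := by
    obtain ⟨q, hq, e⟩ := F.surj v
    exact ⟨q, hq, e⟩
  conj q hq hq' := by
    obtain ⟨g, hg⟩ := F.conj ⟨q, hQP hq⟩ hq fun h => hq' ((zpow_iff hz).1 h)
    exact ⟨g, congrArg Subtype.val hg⟩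
  act A X hX := by
    obtain ⟨g, h1, h2⟩ := F.act A X hX
    refine ⟨g, fun q => ⟨fun hq => (h1 ⟨q, hQP hq⟩).1 hq, fun hq => ?_⟩, fun q hq => h2 ⟨q, hQP hq⟩ hq⟩
    have h3 : q = (g : H)⁻¹ * ((g : H) * q * (g : H)⁻¹) * (g : H) := by group
    have hqP : q ∈ P := by
      rw [h3]
      exact mul_mem (mul_mem (inv_mem g.2) (hQP hq)) g.2
    exact (h1 ⟨q, hqP⟩).2 hq

end Abs

theorem kap_surj (v : V14) : ∃ q ∈ QQ, kap q = v := by
  let S : AddSubmonoid V14 :=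
    { carrier := {v | ∃ q ∈ QQ, kap q = v}
      zero_mem' := ⟨1, one_mem _, kap_one⟩
      add_mem' := by
        rintro _ _ ⟨q, hq, rfl⟩ ⟨q', hq', rfl⟩
        exact ⟨q * q', mul_mem hq hq', kap_mul hq hq'⟩ }
  have h1 : ∀ j, (Pi.single j (eta j) : V14) ∈ S := fun j => ⟨xp (ord14 j), xp_mem (ord14_mem j), kap_xp j⟩
  have h2 : ∀ (j : Fin 14) (c : F3), (Pi.single j c : V14) ∈ S := by
    intro j c
    have h3 : c = (c * eta j).val • eta j := by
      revert c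
      revert j
      decide
    rw [h3, Pi.single_smul]
    exact nsmul_mem (h1 j) _
  have h4 : v = ∑ j, (Pi.single j (v j) : V14) := (Finset.univ_sum_single v).symm
  rw [h4]
  exact sum_mem fun j _ => h2 j (v j)

/-- **The frame on `PP`** -/
theorem frP : Fr ff.ker zP kp :=
  fr_of_xs (xs_ff dat) kp_mul (kp_z dat) (kp_ker dat)
    (fun v => by
      obtain ⟨q, hq, e⟩ := kap_surj v
      exact ⟨⟨q, QQ_le hq⟩, ker_mem.2 hq, e⟩) ff_surj kp_act

/-- **The frame on the whole group** -/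
theorem frG : Fr QQ (xp 47) kap := by
  have h := frP
  rw [ker_eq] at h
  exact Fr.up QQ_le z_mem h

/-! ### `z` is conjugate to its inverse -/

section Tr

universe u v

variable {H : Type u} [Group H]

theorem inv_of_conj {z : H} (h3 : z ^ 3 = 1) (h : ∃ g : H, g * z * g⁻¹ = z * z) : ∃ g : H, g * z * g⁻¹ = z⁻¹ := by
  obtain ⟨g, hg⟩ := h
  exact ⟨g, by rw [hg, inv_eq_of_pow3 h3, pow_two]⟩

theorem trace_of_conj {z : H} (h : ∃ g : H, g * z * g⁻¹ = z * z) {V : Type v} [AddCommGroup V] [Module ℂ V]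
    (ρ : Representation ℂ H V) : LinearMap.trace ℂ V (ρ (z ^ 2)) = LinearMap.trace ℂ V (ρ z) := by
  obtain ⟨g, hg⟩ := h
  rw [pow_two, ← hg]
  exact trace_conj ρ g z

end Tr

theorem conj_zp : ∃ g : Gm, g * xp 47 * g⁻¹ = xp 47 * xp 47 := by
  have hm : (-1 : ZMod 3) ≠ 0 := by decide
  have h47 : 47 < Cfsg.Lie.chevF4.nroots := by
    rw [Cfsg.Agent.H701.F43.Cent.nroots]
    norm_num
  have h1 := (Cfsg.Agent.KFacts.RgdChevCoord.act Cfsg.Agent.H701.F43.Cent.hF h47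
    (Cfsg.Agent.KFacts.RgdChevCoord.hc_mem Cfsg.Agent.H701.F43.Cent.hF 3 hm)).2 1
  rw [Cfsg.Agent.KFacts.RgdChevCoord.ch_hc Cfsg.Agent.H701.F43.Cent.hF 3 hm h47,
    Cfsg.Agent.H701.F43.Cent.cart_theta, zpow_one, mul_one] at h1
  have h2 : Cfsg.Agent.KFacts.RgdChevCoord.xc Cfsg.Agent.H701.F43.Cent.hF
      (Cfsg.Agent.Nodes.RGDChev.vec Cfsg.Lie.chevF4 4 47) (-1 : ZMod 3) = xp 47 * xp 47 := xr_false (by norm_num)
  exact ⟨_, h1.trans h2⟩

set_option maxRecDepth 4000 in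
theorem inv_zp : ∃ g : Gm, g * xp 47 * g⁻¹ = (xp 47)⁻¹ := by
  refine inv_of_conj (z := xp 47) ?_ conj_zp
  exact frG.z3

theorem trace_zp2 {V : Type*} [AddCommGroup V] [Module ℂ V] (ρ : Representation ℂ Gm V) :
    LinearMap.trace ℂ V (ρ ((xp 47) ^ 2)) = LinearMap.trace ℂ V (ρ (xp 47)) := by
  refine trace_of_conj (z := xp 47) ?_ ρ
  exact conj_zp

end Cfsg.Agent.H387.RB
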